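import Mathlib
import Groth.Agent.CompleteLib.Basic

/-!
# `D[[x,y]]/(xy - d)` is a domain for a complete Noetherian local domain `D` and `d ≠ 0` in `m_D`
-/

set_option autoImplicit false

universe u

namespace NodeFactLib

open MvPowerSeries

section TruncHom

variable {D : Type*} [CommRing D] {E : Type*} [CommRing E]

/-- the multi-exponent `(N, N)` -/
noncomputable def cut (N : ℕ) : Fin 2 →₀ ℕ := Finsupp.equivFunOnFinite.symm fun _ => N

theorem cut_apply (N : ℕ) (i : Fin 2) : cut N i = N := rfl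

theorem eval₂_eq_zero_of_coeff (φ : D →+* E) (v : Fin 2 → E) (N : ℕ) (hv : ∀ i, v i ^ N = 0)
    (p : MvPolynomial (Fin 2) D) (hp : ∀ m ≤ cut N, p.coeff m = 0) : MvPolynomial.eval₂ φ v p = 0 := by
  rw [MvPolynomial.eval₂_eq']
  refine Finset.sum_eq_zero fun m hm => ?_
  obtain ⟨i, hi⟩ : ∃ i, N < m i := by
    by_contra h
    push Not at h
    exact MvPolynomial.mem_support_iff.1 hm (hp m fun i => h i)
  exact mul_eq_zero_of_right _ (Finset.prod_eq_zero (Finset.mem_univ i) (pow_eq_zero_of_le hi.le (hv i)))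

/-- evaluation of power series at nilpotent elements -/
noncomputable def truncHom (φ : D →+* E) (v : Fin 2 → E) (N : ℕ) (hv : ∀ i, v i ^ N = 0) :
    MvPowerSeries (Fin 2) D →+* E where
  toFun f := MvPolynomial.eval₂ φ v (trunc' D (cut N) f)
  map_one' := by rw [trunc'_one, MvPolynomial.eval₂_one]
  map_mul' f g := by
    rw [← MvPolynomial.eval₂_mul, ← sub_eq_zero, ← MvPolynomial.eval₂_sub]
    refine eval₂_eq_zero_of_coeff φ v N hv _ fun m hm => ?_
    rw [MvPolynomial.coeff_sub, coeff_trunc', if_pos hm, coeff_trunc'_mul_trunc'_eq_coeff_mul _ _ _ hm, sub_self]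
  map_zero' := by rw [map_zero, MvPolynomial.eval₂_zero]
  map_add' f g := by rw [map_add, MvPolynomial.eval₂_add]

theorem truncHom_apply (φ : D →+* E) (v : Fin 2 → E) (N : ℕ) (hv : ∀ i, v i ^ N = 0)
    (f : MvPowerSeries (Fin 2) D) :
    truncHom φ v N hv f = MvPolynomial.eval₂ φ v (trunc' D (cut N) f) := rfl

theorem truncHom_C (φ : D →+* E) (v : Fin 2 → E) (N : ℕ) (hv : ∀ i, v i ^ N = 0) (a : D) :
    truncHom φ v N hv (C a) = φ a := by
  rw [truncHom_apply, trunc'_C, MvPolynomial.eval₂_C]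

theorem truncHom_eq_of_le (φ : D →+* E) (v : Fin 2 → E) (N N' : ℕ) (h : N ≤ N') (hv : ∀ i, v i ^ N = 0)
    (hv' : ∀ i, v i ^ N' = 0) (f : MvPowerSeries (Fin 2) D) :
    truncHom φ v N hv f = truncHom φ v N' hv' f := by
  rw [truncHom_apply, truncHom_apply, ← sub_eq_zero, ← MvPolynomial.eval₂_sub]
  refine eval₂_eq_zero_of_coeff φ v N hv _ fun m hm => ?_
  rw [MvPolynomial.coeff_sub, coeff_trunc', if_pos hm, coeff_trunc',
    if_pos (hm.trans fun i => h), sub_self]

theorem truncHom_X (φ : D →+* E) (v : Fin 2 → E) (N : ℕ) (hN : 1 ≤ N) (hv : ∀ i, v i ^ N = 0) (i : Fin 2) :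
    truncHom φ v N hv (X i) = v i := by
  classical
  rw [truncHom_apply, ← MvPolynomial.eval₂_X φ v i, ← sub_eq_zero, ← MvPolynomial.eval₂_sub]
  refine eval₂_eq_zero_of_coeff φ v N hv _ fun m hm => ?_
  rw [MvPolynomial.coeff_sub, coeff_trunc', if_pos hm, MvPolynomial.coeff_X, coeff_X]
  by_cases he : m = Finsupp.single i 1
  · simp [he]
  · simp [he, Ne.symm he]

theorem map_truncHom {E' : Type*} [CommRing E'] (ψ : E →+* E') (φ : D →+* E) (v : Fin 2 → E) (N : ℕ)
    (hv : ∀ i, v i ^ N = 0) (f : MvPowerSeries (Fin 2) D) :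
    ψ (truncHom φ v N hv f) =
      truncHom (ψ.comp φ) (ψ ∘ v) N (fun i => by rw [Function.comp_apply, ← map_pow, hv i, map_zero]) f := by
  rw [truncHom_apply, truncHom_apply, MvPolynomial.hom_eval₂]
  rfl

theorem truncHom_congr (φ φ' : D →+* E) (v v' : Fin 2 → E) (N : ℕ) (hv : ∀ i, v i ^ N = 0)
    (hv' : ∀ i, v' i ^ N = 0) (h : φ = φ') (h' : v = v') (f : MvPowerSeries (Fin 2) D) :
    truncHom φ v N hv f = truncHom φ' v' N hv' f := by
  subst h h'
  rfl

end TruncHom

section NormalForm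

variable {D : Type*} [CommRing D] [IsLocalRing D] [IsAdicComplete (IsLocalRing.maximalIdeal D) D]

local notation "δ" => (Finsupp.single (0 : Fin 2) 1 + Finsupp.single (1 : Fin 2) 1)

theorem exists_normalForm (d : D) (hd : d ∈ IsLocalRing.maximalIdeal D) (f : MvPowerSeries (Fin 2) D) :
    ∃ g : MvPowerSeries (Fin 2) D, ∀ m : Fin 2 →₀ ℕ, m 0 ≠ 0 → m 1 ≠ 0 →
      coeff m (f - (X 0 * X 1 - C d) * g) = 0 := by
  classical
  set M := IsLocalRing.maximalIdeal D
  let S : (Fin 2 →₀ ℕ) → ℕ → D := fun e n => ∑ l ∈ Finset.range n, d ^ l * coeff (e + (l + 1) • δ) f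
  have hsucc : ∀ e n, S e (n + 1) = coeff (e + δ) f + d * S (e + δ) n := by
    intro e n
    simp only [S, Finset.sum_range_succ', Finset.mul_sum, pow_zero, one_mul, zero_add, one_smul]
    rw [add_comm]
    congr 1
    refine Finset.sum_congr rfl fun l _ => ?_
    rw [← mul_assoc, ← pow_succ', add_assoc e, ← succ_nsmul', add_assoc]
  have hc : ∀ e {m n : ℕ}, m ≤ n → S e m ≡ S e n [SMOD (M ^ m • ⊤ : Submodule D D)] := by
    intro e m n hmn
    rw [SModEq.sub_mem, smul_eq_mul, Ideal.mul_top]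
    induction n, hmn using Nat.le_induction with
    | base => simp
    | succ n hmn ih =>
      have hs : S e (n + 1) = S e n + d ^ n * coeff (e + (n + 1) • δ) f := Finset.sum_range_succ _ n
      rw [hs, ← sub_sub]
      exact sub_mem ih (Ideal.mul_mem_right _ _ (Ideal.pow_le_pow_right hmn (Ideal.pow_mem_pow hd n)))
  choose g hg using fun e => IsPrecomplete.prec (I := M) (M := D) inferInstance (hc e)
  let G : MvPowerSeries (Fin 2) D := fun e => g e
  refine ⟨G, fun m h0 h1 => ?_⟩
  have hle : δ ≤ m := fun i => by fin_cases i <;> simp <;> omega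
  obtain ⟨e, rfl⟩ : ∃ e, m = e + δ := ⟨m - δ, (tsub_add_cancel_of_le hle).symm⟩
  rw [sub_mul, map_sub, map_sub, coeff_C_mul,
    show (X 0 * X 1 : MvPowerSeries (Fin 2) D) = monomial δ 1 by rw [X_def, X_def, monomial_mul_monomial, one_mul],
    coeff_monomial_mul, if_pos le_add_self, one_mul, add_tsub_cancel_right]
  show coeff (e + δ) f - (g e - d * g (e + δ)) = 0
  refine IsHausdorff.haus (I := M) inferInstance _ fun n => ?_
  rw [SModEq.zero, smul_eq_mul, Ideal.mul_top]
  have h2 := hg e (n + 1)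
  have h3 := hg (e + δ) n
  rw [SModEq.sub_mem, smul_eq_mul, Ideal.mul_top] at h2 h3
  rw [show coeff (e + δ) f - (g e - d * g (e + δ))
      = (S e (n + 1) - g e) - d * (S (e + δ) n - g (e + δ)) by rw [hsucc]; ring]
  exact sub_mem (Ideal.pow_le_pow_right (Nat.le_succ n) h2) (Ideal.mul_mem_left _ _ h3)

end NormalForm

section Ext

/-- adjoining a square root of `d` inside a finite domain extension -/
theorem exists_sqrt_extension (D : Type u) [CommRing D] [IsDomain D] (d : D) :
    ∃ (D' : Type u) (_ : CommRing D') (_ : IsDomain D') (_ : Algebra D D'),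
      Module.Finite D D' ∧ Function.Injective (algebraMap D D') ∧ ∃ s : D', s ^ 2 = algebraMap D D' d := by
  let p : Polynomial D := Polynomial.X ^ 2 - Polynomial.C d
  have hp : p.Monic := Polynomial.monic_X_pow_sub_C d two_ne_zero
  haveI := hp.finite_adjoinRoot
  haveI : Algebra.IsIntegral D (AdjoinRoot p) := Algebra.IsIntegral.of_finite D _
  have hinj : Function.Injective (algebraMap D (AdjoinRoot p)) := by
    refine AdjoinRoot.of.injective_of_degree_ne_zero ?_
    rw [Polynomial.degree_X_pow_sub_C two_pos]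
    decide
  have hk : RingHom.ker (algebraMap D (AdjoinRoot p)) = ⊥ := (RingHom.injective_iff_ker_eq_bot _).1 hinj
  obtain ⟨Q, -, hQ, hQ0⟩ := Ideal.exists_ideal_over_prime_of_isIntegral (⊥ : Ideal D) (⊥ : Ideal (AdjoinRoot p))
    (by rw [← RingHom.ker_eq_comap_bot, hk])
  haveI := hQ
  refine ⟨AdjoinRoot p ⧸ Q, inferInstance, inferInstance, inferInstance, inferInstance, ?_,
    Ideal.Quotient.mk Q (AdjoinRoot.root p), ?_⟩
  · rw [RingHom.injective_iff_ker_eq_bot, ← hQ0]
    ext x
    exact Ideal.Quotient.eq_zero_iff_mem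
  · have h : AdjoinRoot.root p ^ 2 = algebraMap D (AdjoinRoot p) d := by
      have := AdjoinRoot.eval₂_root p
      rw [Polynomial.eval₂_sub, Polynomial.eval₂_pow, Polynomial.eval₂_X, Polynomial.eval₂_C, sub_eq_zero] at this
      exact this
    rw [← map_pow, h]
    rfl

end Ext

theorem laurent_eval₂_injective (E : Type*) [CommRing E] (w : (PowerSeries E)ˣ) (hw : (w : PowerSeries E) = 1 + PowerSeries.X)
    (p : LaurentPolynomial E) (hp : LaurentPolynomial.eval₂ PowerSeries.C w p = 0) : p = 0 := by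
  obtain ⟨n, q, hq⟩ := p.exists_T_pow
  have h0 : LaurentPolynomial.eval₂ PowerSeries.C w (Polynomial.toLaurent q) = 0 := by
    rw [hq, map_mul, hp, zero_mul]
  rw [LaurentPolynomial.eval₂_toLaurent, hw] at h0
  have h1 : ((Polynomial.taylor (1 : E) q : Polynomial E) : PowerSeries E) = 0 := by
    rw [← h0, Polynomial.taylor_apply, Polynomial.comp, ← Polynomial.coeToPowerSeries.ringHom_apply,
      Polynomial.hom_eval₂]
    refine congrArg₂ (fun (a : E →+* PowerSeries E) (b : PowerSeries E) => Polynomial.eval₂ a b q) ?_ ?_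
    · ext a; simp
    · simp [add_comm]
  rw [← Polynomial.coe_zero, Polynomial.coe_inj] at h1
  have hq0 : q = 0 := Polynomial.taylor_injective _ (h1.trans (map_zero _).symm)
  rw [hq0, map_zero] at hq
  have h2 : p * LaurentPolynomial.T (n : ℤ) * LaurentPolynomial.T (-(n : ℤ)) = 0 := by rw [← hq, zero_mul]
  rwa [mul_assoc, ← LaurentPolynomial.T_add, add_neg_cancel, LaurentPolynomial.T_zero, mul_one] at h2

section Main

variable {D : Type u} [CommRing D] [IsDomain D] [IsLocalRing D] [IsNoetherianRing D]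
  [IsAdicComplete (IsLocalRing.maximalIdeal D) D]

/-- The two-branch node with nonzero parameter over a complete domain has no zero divisors. -/
theorem node_mem_or_mem (d : D) (hd0 : d ≠ 0) (hd : d ∈ IsLocalRing.maximalIdeal D)
    (f g : MvPowerSeries (Fin 2) D) (h : f * g ∈ Ideal.span {X 0 * X 1 - C d}) :
    f ∈ Ideal.span {(X 0 * X 1 - C d : MvPowerSeries (Fin 2) D)} ∨
      g ∈ Ideal.span {(X 0 * X 1 - C d : MvPowerSeries (Fin 2) D)} := by
  classical
  obtain ⟨D', _, _, _, hfin, hinj, s, hs⟩ := exists_sqrt_extension D d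
  haveI : IsNoetherianRing D' := IsNoetherianRing.of_finite D D'
  set M := IsLocalRing.maximalIdeal D with hM
  set I : Ideal D' := M.map (algebraMap D D') with hIdef
  haveI : IsAdicComplete M D' := CompleteLib.isAdicComplete_of_finite
  have hpow : ∀ n, (M ^ n • ⊤ : Submodule D D') = (I ^ n).restrictScalars D := fun n => by
    rw [Ideal.smul_top_eq_map, hIdef, Ideal.map_pow]
  have hhaus : ∀ z : D', (∀ k, z ∈ I ^ k) → z = 0 := fun z hz =>
    IsHausdorff.haus (I := M) inferInstance z fun n => by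
      rw [SModEq.zero, hpow]; exact hz n
  have hs0 : s ≠ 0 := fun e => hd0 (hinj (by rw [← hs, e, map_zero]; simp))
  have hspow : ∀ k, s ^ (2 * k + 1) ∈ I ^ k := fun k => by
    rw [pow_succ, pow_mul, hs, ← map_pow]
    refine Ideal.mul_mem_right _ _ ?_
    rw [hIdef, ← Ideal.map_pow]
    exact Ideal.mem_map_of_mem _ (Ideal.pow_mem_pow hd k)
  -- Laurent polynomial truncations
  let q : ∀ k, D' →+* (D' ⧸ I ^ k) := fun k => Ideal.Quotient.mk _
  let v : ∀ k, Fin 2 → LaurentPolynomial (D' ⧸ I ^ k) := fun k =>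
    ![LaurentPolynomial.C (q k s) * LaurentPolynomial.T 1, LaurentPolynomial.C (q k s) * LaurentPolynomial.T (-1)]
  have hqs : ∀ k N, 2 * k + 1 ≤ N → q k s ^ N = 0 := fun k N hN => by
    refine pow_eq_zero_of_le hN ?_
    rw [← map_pow]
    exact Ideal.Quotient.eq_zero_iff_mem.2 (hspow k)
  have hv : ∀ k N, 2 * k + 1 ≤ N → ∀ i, v k i ^ N = 0 := by
    intro k N hN i
    fin_cases i <;> simp [v, mul_pow, ← map_pow, hqs k N hN]
  let φ : ∀ k, D →+* LaurentPolynomial (D' ⧸ I ^ k) := fun k =>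
    LaurentPolynomial.C.comp ((q k).comp (algebraMap D D'))
  let Φ : ∀ k, MvPowerSeries (Fin 2) D →+* LaurentPolynomial (D' ⧸ I ^ k) := fun k =>
    truncHom (φ k) (v k) (2 * k + 1) (hv k _ le_rfl)
  have hΦrel : ∀ k x, x ∈ Ideal.span {(X 0 * X 1 - C d : MvPowerSeries (Fin 2) D)} → Φ k x = 0 := by
    intro k x hx
    obtain ⟨c, rfl⟩ := Ideal.mem_span_singleton.1 hx
    refine (map_mul (Φ k) _ _).trans ?_
    have : Φ k (X 0 * X 1 - C d) = 0 := by
      simp only [Φ, map_sub, map_mul, truncHom_X _ _ _ (Nat.le_add_left 1 (2 * k)), truncHom_C]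
      simp only [v, φ, RingHom.comp_apply, Matrix.cons_val_zero, Matrix.cons_val_one]
      rw [mul_mul_mul_comm, ← LaurentPolynomial.T_add, ← map_mul, ← map_mul, ← pow_two, hs]
      simp
    rw [this, zero_mul]
  -- injectivity
  have hker : ∀ x, (∀ k, Φ k x = 0) → x ∈ Ideal.span {(X 0 * X 1 - C d : MvPowerSeries (Fin 2) D)} := by
    intro x hx
    obtain ⟨c, hc⟩ := exists_normalForm d hd x
    set B := x - (X 0 * X 1 - C d) * c with hBdef
    have hB : ∀ k, Φ k B = 0 := fun k => by
      rw [hBdef, map_sub, hx k, zero_sub, neg_eq_zero]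
      exact hΦrel k _ (Ideal.mul_mem_right _ _ (Ideal.mem_span_singleton_self _))
    suffices hB0 : B = 0 by
      rw [sub_eq_zero] at hB0
      rw [hB0]
      exact Ideal.mul_mem_right _ _ (Ideal.mem_span_singleton_self _)
    ext m
    by_cases hm : m 0 ≠ 0 ∧ m 1 ≠ 0
    · exact hc m hm.1 hm.2
    rw [map_zero]
    refine (map_eq_zero_iff _ hinj).1 ?_
    refine (mul_eq_zero.1 (hhaus (algebraMap D D' (coeff m B) * s ^ (m 0 + m 1)) fun k => ?_)).resolve_right (pow_ne_zero _ hs0)
    set K := k + m 0 + m 1 with hK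
    have hkK : k ≤ K := by omega
    have hmle : m ≤ cut (2 * K + 1) := fun i => by
      rw [cut_apply]; fin_cases i <;> simp <;> omega
    have h1 := congrArg (fun p : LaurentPolynomial (D' ⧸ I ^ K) => p.coeff ((m 0 : ℤ) - (m 1 : ℤ))) (hB K)
    have hterm : ∀ e : Fin 2 →₀ ℕ, φ K (coeff e B) * ∏ i, v K i ^ e i =
        LaurentPolynomial.C (q K (algebraMap D D' (coeff e B) * s ^ (e 0 + e 1))) *
          LaurentPolynomial.T ((e 0 : ℤ) - (e 1 : ℤ)) := by
      intro e
      simp only [φ, v, RingHom.comp_apply, Fin.prod_univ_two, Matrix.cons_val_zero, Matrix.cons_val_one, mul_pow,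
        LaurentPolynomial.T_pow, map_mul, map_pow, pow_add]
      rw [sub_eq_add_neg, LaurentPolynomial.T_add, mul_one, mul_neg_one]
      ring
    have hcoe : ∀ e : Fin 2 →₀ ℕ, (φ K (coeff e B) * ∏ i, v K i ^ e i).coeff ((m 0 : ℤ) - (m 1 : ℤ)) =
        if (e 0 : ℤ) - (e 1 : ℤ) = (m 0 : ℤ) - (m 1 : ℤ) then q K (algebraMap D D' (coeff e B) * s ^ (e 0 + e 1)) else 0 := by
      intro e
      rw [hterm e, ← LaurentPolynomial.single_eq_C_mul_T]
      exact Finsupp.single_apply
    simp only [Φ, truncHom_apply, MvPolynomial.eval₂_eq', AddMonoidAlgebra.coeff_sum, Finset.sum_apply',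
      AddMonoidAlgebra.coeff_zero, Finsupp.coe_zero, Pi.zero_apply] at h1
    have h2 : q K (algebraMap D D' (coeff m B) * s ^ (m 0 + m 1)) = 0 := by
      rw [← h1, Finset.sum_eq_single m]
      · rw [coeff_trunc', if_pos hmle, hcoe, if_pos rfl]
      · intro e he hne
        have he' : e ≤ cut (2 * K + 1) := by
          by_contra hcon
          rw [MvPolynomial.mem_support_iff, coeff_trunc', if_neg hcon] at he
          exact he rfl
        rw [coeff_trunc', if_pos he', hcoe]
        by_cases hax : e 0 ≠ 0 ∧ e 1 ≠ 0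
        · rw [show coeff e B = 0 from hc e hax.1 hax.2]
          simp
        · rw [if_neg]
          intro heq
          refine hne (Finsupp.ext fun i => ?_)
          fin_cases i <;> simp <;> omega
      · intro hnot
        rw [MvPolynomial.notMem_support_iff] at hnot
        rw [hnot, map_zero, zero_mul]
        rfl
    exact Ideal.pow_le_pow_right hkK (Ideal.Quotient.eq_zero_iff_mem.1 h2)
  -- passage to power series
  have hunit : IsUnit (1 + PowerSeries.X : PowerSeries D') := by
    rw [PowerSeries.isUnit_iff_constantCoeff]; simp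
  let w : ∀ k, (PowerSeries (D' ⧸ I ^ k))ˣ := fun k => Units.map (PowerSeries.map (q k)).toMonoidHom hunit.unit
  have hw : ∀ k, ((w k : PowerSeries (D' ⧸ I ^ k))) = 1 + PowerSeries.X := fun k => by
    simp [w]
  let L : ∀ k, LaurentPolynomial (D' ⧸ I ^ k) →+* PowerSeries (D' ⧸ I ^ k) := fun k =>
    LaurentPolynomial.eval₂ PowerSeries.C (w k)
  have hcompat : ∀ {k l : ℕ} (hkl : k ≤ l) x,
      PowerSeries.map (Ideal.Quotient.factor (Ideal.pow_le_pow_right hkl)) (L l (Φ l x)) = L k (Φ k x) := by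
    intro k l hkl x
    simp only [Φ]
    rw [map_truncHom, map_truncHom, map_truncHom]
    refine Eq.trans ?_ (truncHom_eq_of_le _ _ _ (2 * l + 1) (by omega) _ ?_ x).symm
    · refine truncHom_congr _ _ _ _ _ _ _ ?_ ?_ x
      · ext a
        simp only [φ, L, q, RingHom.comp_apply, LaurentPolynomial.eval₂_C, PowerSeries.map_C,
          Ideal.Quotient.factor_mk]
      · funext i
        simp only [Function.comp_apply]
        fin_cases i <;>
          simp [v, L, q, w, ← Units.val_inv_eq_inv_val, ← map_inv, Units.coe_map_inv]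
        exact congrArg (PowerSeries.C (Ideal.Quotient.mk (I ^ k) s) * ·) (PowerSeries.ext fun j => by simp)
    · intro i
      rw [Function.comp_apply, ← map_pow, hv k _ (by omega) i, map_zero]
  have hlim : ∀ x, ∃ F : PowerSeries D', ∀ k, PowerSeries.map (q k) F = L k (Φ k x) := by
    intro x
    choose c hc using fun k n => Ideal.Quotient.mk_surjective (I := I ^ k) (PowerSeries.coeff n (L k (Φ k x)))
    have hc' : ∀ n {k l : ℕ}, k ≤ l → c k n ≡ c l n [SMOD (M ^ k • ⊤ : Submodule D D')] := by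
      intro n k l hkl
      rw [SModEq.sub_mem, hpow, Submodule.restrictScalars_mem, ← Ideal.Quotient.eq, hc k n, ← hcompat hkl x,
        PowerSeries.coeff_map, ← hc l n, Ideal.Quotient.factor_mk]
    choose F hF using fun n => IsPrecomplete.prec (I := M) (M := D') inferInstance (hc' n)
    refine ⟨PowerSeries.mk F, fun k => PowerSeries.ext fun n => ?_⟩
    rw [PowerSeries.coeff_map, PowerSeries.coeff_mk, ← hc k n]
    have := hF n k
    rw [SModEq.sub_mem, hpow, Submodule.restrictScalars_mem, ← Ideal.Quotient.eq] at this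
    exact this.symm
  obtain ⟨F, hF⟩ := hlim f
  obtain ⟨G, hG⟩ := hlim g
  have hFG : F * G = 0 := by
    ext n
    rw [map_zero]
    refine hhaus _ fun k => ?_
    rw [← Ideal.Quotient.eq_zero_iff_mem]
    show q k (PowerSeries.coeff n (F * G)) = 0
    rw [← PowerSeries.coeff_map, map_mul, hF k, hG k, ← map_mul, ← map_mul, hΦrel k _ h, map_zero, map_zero]
  have hfin' : ∀ x (X' : PowerSeries D'), (∀ k, PowerSeries.map (q k) X' = L k (Φ k x)) → X' = 0 →
      x ∈ Ideal.span {(X 0 * X 1 - C d : MvPowerSeries (Fin 2) D)} := fun x X' hX' h0 => by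
    refine hker x fun k => laurent_eval₂_injective _ (w k) (hw k) _ ?_
    show L k (Φ k x) = 0
    rw [← hX' k, h0, map_zero]
  rcases mul_eq_zero.1 hFG with h0 | h0
  · exact Or.inl (hfin' f F hF h0)
  · exact Or.inr (hfin' g G hG h0)

end Main

end NodeFactLib
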