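import Mathlib
import Groth.Agent.CompleteLib.Basic
import Groth.Agent.NodeFactLib.Dom

/-!
# Branch maps and Gauss' lemma for `R[[x,y]]/(xy - r)`
-/

set_option autoImplicit false

universe u

namespace NodeFactLib

open MvPowerSeries

variable {R : Type u} [CommRing R]

/-- the node algebra -/
abbrev Nd (r : R) : Type u := MvPowerSeries (Fin 2) R ⧸ Ideal.span {(X 0 * X 1 - C r : MvPowerSeries (Fin 2) R)}

/-- the class of a variable -/
noncomputable abbrev xv (r : R) (i : Fin 2) : Nd r := Ideal.Quotient.mk _ (X i)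

/-- the structure map -/
noncomputable abbrev cc (r : R) : R →+* Nd r := (Ideal.Quotient.mk _).comp C

theorem xv_mul (r : R) : xv r 0 * xv r 1 = cc r r := by
  rw [← map_mul]
  exact Ideal.Quotient.eq.2 (Ideal.mem_span_singleton_self _)

theorem xv_mul' (r : R) {i j : Fin 2} (h : i ≠ j) : xv r i * xv r j = cc r r := by
  have : (i = 0 ∧ j = 1) ∨ (i = 1 ∧ j = 0) := by omega
  rcases this with ⟨rfl, rfl⟩ | ⟨rfl, rfl⟩
  · exact xv_mul r
  · rw [mul_comm]; exact xv_mul r

/-- restriction to an axis -/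
noncomputable def axis (i : Fin 2) : MvPowerSeries (Fin 2) R →+* PowerSeries R where
  toFun f := PowerSeries.mk fun n => coeff (Finsupp.single i n) f
  map_one' := by
    classical
    ext n
    rw [PowerSeries.coeff_mk, PowerSeries.coeff_one, coeff_one]
    by_cases hn : n = 0
    · simp [hn]
    · simp [hn]
  map_mul' f g := by
    classical
    ext n
    rw [PowerSeries.coeff_mk, coeff_mul, PowerSeries.coeff_mul, Finsupp.antidiagonal_single, Finset.sum_map]
    exact Finset.sum_congr rfl fun p _ => by simp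
  map_zero' := by ext n; simp
  map_add' f g := by ext n; simp

theorem coeff_axis (i : Fin 2) (n : ℕ) (f : MvPowerSeries (Fin 2) R) :
    PowerSeries.coeff n (axis i f) = coeff (Finsupp.single i n) f := by
  show PowerSeries.coeff n (PowerSeries.mk fun n => coeff (Finsupp.single i n) f) = _
  rw [PowerSeries.coeff_mk]

theorem axis_X_self (i : Fin 2) : axis (R := R) i (X i) = PowerSeries.X := by
  classical
  ext n
  rw [coeff_axis, PowerSeries.coeff_X, coeff_X]
  by_cases hn : n = 1
  · simp [hn]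
  · simp [hn, Finsupp.single_eq_single_iff]

theorem axis_X_ne {i j : Fin 2} (h : i ≠ j) : axis (R := R) i (X j) = 0 := by
  classical
  ext n
  rw [coeff_axis, coeff_X, if_neg]
  · simp
  · simp [Finsupp.single_eq_single_iff, h]

theorem axis_C (i : Fin 2) (b : R) : axis (R := R) i (C b) = PowerSeries.C b := by
  classical
  ext n
  rw [coeff_axis, PowerSeries.coeff_C, coeff_C]
  by_cases hn : n = 0
  · simp [hn]
  · simp [hn]

theorem axis_rel (r : R) (i : Fin 2) : axis i (X 0 * X 1 - C r) = - PowerSeries.C r := by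
  rw [map_sub, map_mul, axis_C]
  have : i ≠ 0 ∨ i ≠ 1 := by omega
  rcases this with h | h <;> rw [axis_X_ne h] <;> simp

/-- the branch map modulo a divisor of `r` -/
noncomputable def br (r : R) (p : R) (hp : p ∣ r) (i : Fin 2) : Nd r →+* PowerSeries (R ⧸ Ideal.span {p}) :=
  Ideal.Quotient.lift _ ((PowerSeries.map (Ideal.Quotient.mk (Ideal.span {p}))).comp (axis i)) fun f hf => by
    obtain ⟨g, rfl⟩ := Ideal.mem_span_singleton.1 hf
    rw [RingHom.comp_apply, map_mul, map_mul, axis_rel, map_neg, PowerSeries.map_C,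
      Ideal.Quotient.eq_zero_iff_mem.2 (Ideal.mem_span_singleton.2 hp), map_zero, neg_zero, zero_mul]

theorem br_mk (r : R) (p : R) (hp : p ∣ r) (i : Fin 2) (f : MvPowerSeries (Fin 2) R) :
    br r p hp i (Ideal.Quotient.mk _ f) = PowerSeries.map (Ideal.Quotient.mk (Ideal.span {p})) (axis i f) := rfl

theorem br_cc (r : R) (p : R) (hp : p ∣ r) (i : Fin 2) (b : R) :
    br r p hp i (cc r b) = PowerSeries.C (Ideal.Quotient.mk (Ideal.span {p}) b) := by
  rw [RingHom.comp_apply, br_mk, axis_C, PowerSeries.map_C]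

theorem br_cc_self (r : R) (p : R) (hp : p ∣ r) (i : Fin 2) : br r p hp i (cc r p) = 0 := by
  rw [br_cc, Ideal.Quotient.eq_zero_iff_mem.2 (Ideal.mem_span_singleton_self p), map_zero]

theorem br_xv_self (r : R) (p : R) (hp : p ∣ r) (i : Fin 2) : br r p hp i (xv r i) = PowerSeries.X := by
  rw [br_mk, axis_X_self, PowerSeries.map_X]

theorem br_xv_ne (r : R) (p : R) (hp : p ∣ r) {i j : Fin 2} (h : i ≠ j) : br r p hp i (xv r j) = 0 := by
  rw [br_mk, axis_X_ne h, map_zero]

theorem br_ker (r : R) (p : R) (hp : p ∣ r) {i j : Fin 2} (hij : i ≠ j) (z : Nd r) (hz : br r p hp i z = 0) :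
    ∃ u v, z = cc r p * u + xv r j * v := by
  classical
  obtain ⟨f, rfl⟩ := Ideal.Quotient.mk_surjective z
  rw [br_mk] at hz
  have hdvd : ∀ n, p ∣ coeff (Finsupp.single i n) f := fun n => by
    have := congrArg (PowerSeries.coeff n) hz
    rw [map_zero, PowerSeries.coeff_map, coeff_axis, Ideal.Quotient.eq_zero_iff_mem, Ideal.mem_span_singleton] at this
    exact this
  choose q hq using hdvd
  let g : MvPowerSeries (Fin 2) R := fun d => if d j = 0 then q (d i) else 0
  obtain ⟨s, hs⟩ : (X j : MvPowerSeries (Fin 2) R) ∣ f - C p * g := by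
    rw [X_dvd_iff]
    intro d hd
    have e : Finsupp.single i (d i) = d := by
      ext l
      rcases eq_or_ne l i with rfl | hl
      · simp
      · have : l = j := by omega
        subst this
        simp [hd, hl.symm]
    rw [map_sub, coeff_C_mul, show coeff d g = (if d j = 0 then q (d i) else 0) from rfl, if_pos hd, ← hq, e, sub_self]
  rw [sub_eq_iff_eq_add] at hs
  refine ⟨Ideal.Quotient.mk _ g, Ideal.Quotient.mk _ s, ?_⟩
  rw [hs, map_add, map_mul, map_mul, add_comm]
  rfl

theorem xv_dvd_of_br_eq_zero (r : R) {i j : Fin 2} (hij : i ≠ j) (z : Nd r) (hz : br r r (dvd_refl r) i z = 0) :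
    xv r j ∣ z := by
  obtain ⟨u, v, rfl⟩ := br_ker r r (dvd_refl r) hij z hz
  rw [← xv_mul' r hij]
  exact dvd_add (Dvd.dvd.mul_right (dvd_mul_left _ _) _) (dvd_mul_right _ _)

theorem cc_dvd_of_br_eq_zero [IsDomain R] (r : R) (p : R) (hp : p ∣ r) (hprime : Prime p) (z : Nd r)
    (h0 : br r p hp 0 z = 0) (h1 : br r p hp 1 z = 0) : cc r p ∣ z := by
  haveI : (Ideal.span {p}).IsPrime := (Ideal.span_singleton_prime hprime.ne_zero).2 hprime
  obtain ⟨u, v, rfl⟩ := br_ker r p hp (show (0 : Fin 2) ≠ 1 by decide) z h0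
  rw [map_add, map_mul, map_mul, br_cc_self, zero_mul, zero_add, br_xv_self, mul_eq_zero,
    or_iff_right PowerSeries.X_ne_zero] at h1
  obtain ⟨u', v', rfl⟩ := br_ker r p hp (show (1 : Fin 2) ≠ 0 by decide) v h1
  obtain ⟨r', hr'⟩ := hp
  refine ⟨u + xv r 1 * u' + cc r r' * v', ?_⟩
  have : xv r 0 * xv r 1 = cc r p * cc r r' := by rw [xv_mul, ← map_mul, ← hr']
  linear_combination v' * this

theorem xv_regular [IsDomain R] (r : R) (hr : r ≠ 0) (i : Fin 2) (z : Nd r) (h : xv r i * z = 0) : z = 0 := by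
  classical
  obtain ⟨f, rfl⟩ := Ideal.Quotient.mk_surjective z
  rw [← map_mul, Ideal.Quotient.eq_zero_iff_mem, Ideal.mem_span_singleton] at h
  obtain ⟨g, hg⟩ := h
  obtain ⟨g', rfl⟩ : (X i : MvPowerSeries (Fin 2) R) ∣ g := by
    have hdvd : (X i : MvPowerSeries (Fin 2) R) ∣ C r * g := by
      have h1 : (X i : MvPowerSeries (Fin 2) R) ∣ X 0 * X 1 * g := by
        fin_cases i
        · exact Dvd.dvd.mul_right (dvd_mul_right _ _) _
        · exact Dvd.dvd.mul_right (dvd_mul_left _ _) _
      rw [show C r * g = X 0 * X 1 * g - (X 0 * X 1 - C r) * g by ring, ← hg]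
      exact dvd_sub h1 (dvd_mul_right _ _)
    rw [X_dvd_iff] at hdvd ⊢
    intro d hd
    have := hdvd d hd
    rw [coeff_C_mul, mul_eq_zero] at this
    exact this.resolve_left hr
  have hX : (X i : MvPowerSeries (Fin 2) R) ≠ 0 := fun e => by
    have := congrArg (coeff (Finsupp.single i 1)) e
    rw [coeff_X, if_pos rfl, map_zero] at this
    exact one_ne_zero this
  rw [mul_left_comm] at hg
  rw [Ideal.Quotient.eq_zero_iff_mem, Ideal.mem_span_singleton]
  exact ⟨g', mul_left_cancel₀ hX hg⟩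

theorem rel_ne_zero [Nontrivial R] (r : R) : (X 0 * X 1 - C r : MvPowerSeries (Fin 2) R) ≠ 0 := fun e => by
  classical
  have := congrArg (coeff (Finsupp.single (0 : Fin 2) 1 + Finsupp.single (1 : Fin 2) 1)) e
  rw [map_sub, map_zero, X_def, X_def, monomial_mul_monomial, one_mul, coeff_monomial_same, coeff_C, if_neg,
    sub_zero] at this
  · exact one_ne_zero this
  · intro h
    have := DFunLike.congr_fun h 0
    simp at this

theorem dvd_of_map_eq_zero (p : R) (f : MvPowerSeries (Fin 2) R)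
    (h : MvPowerSeries.map (Ideal.Quotient.mk (Ideal.span {p})) f = 0) : C p ∣ f := by
  have hdvd : ∀ n, p ∣ coeff n f := fun n => by
    have := congrArg (coeff n) h
    rw [map_zero, coeff_map, Ideal.Quotient.eq_zero_iff_mem, Ideal.mem_span_singleton] at this
    exact this
  choose q hq using hdvd
  let Q : MvPowerSeries (Fin 2) R := fun n => q n
  exact ⟨Q, MvPowerSeries.ext fun n => by rw [coeff_C_mul]; exact hq n⟩

theorem cc_regular [IsDomain R] [UniqueFactorizationMonoid R] (r : R) : ∀ t : R, t ≠ 0 → ∀ z : Nd r,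
    cc r t * z = 0 → z = 0 := by
  classical
  intro t
  induction t using UniqueFactorizationMonoid.induction_on_prime with
  | h₁ => exact fun h => absurd rfl h
  | h₂ x hx => exact fun _ z hz => (hx.map (cc r)).mul_right_eq_zero.1 hz
  | h₃ a p ha hp ih =>
    intro _ z hz
    refine ih ha z ?_
    rw [map_mul, mul_assoc] at hz
    generalize cc r a * z = w at hz ⊢
    haveI : (Ideal.span {p}).IsPrime := (Ideal.span_singleton_prime hp.ne_zero).2 hp
    obtain ⟨f, rfl⟩ := Ideal.Quotient.mk_surjective w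
    rw [RingHom.comp_apply, ← map_mul, Ideal.Quotient.eq_zero_iff_mem, Ideal.mem_span_singleton] at hz
    obtain ⟨g, hg⟩ := hz
    have h0 := congrArg (MvPowerSeries.map (Ideal.Quotient.mk (Ideal.span {p}))) hg
    rw [map_mul, map_mul, MvPowerSeries.map_C, Ideal.Quotient.eq_zero_iff_mem.2 (Ideal.mem_span_singleton_self p),
      map_zero, zero_mul, map_sub, map_mul, MvPowerSeries.map_X, MvPowerSeries.map_X, MvPowerSeries.map_C] at h0
    obtain ⟨g', rfl⟩ := dvd_of_map_eq_zero p g ((mul_eq_zero.1 h0.symm).resolve_left (rel_ne_zero _))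
    rw [Ideal.Quotient.eq_zero_iff_mem, Ideal.mem_span_singleton]
    refine ⟨g', mul_left_cancel₀ ?_ (hg.trans (mul_left_comm _ _ _))⟩
    exact fun e => hp.ne_zero (by simpa using congrArg constantCoeff e)

theorem cc_gauss [IsDomain R] [IsLocalRing R] [IsNoetherianRing R] [IsAdicComplete (IsLocalRing.maximalIdeal R) R]
    (r : R) (hr : r ∈ IsLocalRing.maximalIdeal R) (p : R) (hp : Prime p) (hpr : ¬ p ∣ r) (z w : Nd r)
    (h : cc r p ∣ z * w) : cc r p ∣ z ∨ cc r p ∣ w := by
  classical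
  haveI : (Ideal.span {p}).IsPrime := (Ideal.span_singleton_prime hp.ne_zero).2 hp
  haveI : IsLocalRing (R ⧸ Ideal.span {p}) :=
    .of_surjective' (Ideal.Quotient.mk _) Ideal.Quotient.mk_surjective
  have hm : (IsLocalRing.maximalIdeal R).map (algebraMap R (R ⧸ Ideal.span {p})) =
      IsLocalRing.maximalIdeal (R ⧸ Ideal.span {p}) := by
    refine IsLocalRing.eq_maximalIdeal (Ideal.IsMaximal.map_of_surjective_of_ker_le Ideal.Quotient.mk_surjective ?_)
    rw [Ideal.mk_ker]
    exact IsLocalRing.le_maximalIdeal (Ideal.IsPrime.ne_top inferInstance)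
  haveI : IsAdicComplete (IsLocalRing.maximalIdeal (R ⧸ Ideal.span {p})) (R ⧸ Ideal.span {p}) := by
    rw [← hm]
    exact (IsAdicComplete.map_algebraMap_iff _ _).2 CompleteLib.isAdicComplete_of_finite
  obtain ⟨f, rfl⟩ := Ideal.Quotient.mk_surjective z
  obtain ⟨g, rfl⟩ := Ideal.Quotient.mk_surjective w
  obtain ⟨v, hv⟩ := h
  obtain ⟨e, rfl⟩ := Ideal.Quotient.mk_surjective v
  rw [RingHom.comp_apply, ← map_mul, ← map_mul, Ideal.Quotient.eq, Ideal.mem_span_singleton] at hv
  set φ := MvPowerSeries.map (σ := Fin 2) (Ideal.Quotient.mk (Ideal.span {p})) with hφ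
  set d := Ideal.Quotient.mk (Ideal.span {p}) r
  have hd0 : d ≠ 0 := fun e => hpr (Ideal.mem_span_singleton.1 (Ideal.Quotient.eq_zero_iff_mem.1 e))
  have hd : d ∈ IsLocalRing.maximalIdeal (R ⧸ Ideal.span {p}) := hm ▸ Ideal.mem_map_of_mem _ hr
  have hrel : φ (X 0 * X 1 - C r) = X 0 * X 1 - C d := by
    rw [hφ, map_sub, map_mul, MvPowerSeries.map_X, MvPowerSeries.map_X, MvPowerSeries.map_C]
  have hp0 : φ (C p) = 0 := by
    rw [hφ, MvPowerSeries.map_C, Ideal.Quotient.eq_zero_iff_mem.2 (Ideal.mem_span_singleton_self p), map_zero]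
  have hmem : φ f * φ g ∈ Ideal.span {(X 0 * X 1 - C d : MvPowerSeries (Fin 2) (R ⧸ Ideal.span {p}))} := by
    have := map_dvd φ hv
    rw [hrel, map_sub, map_mul, map_mul, hp0, zero_mul, sub_zero] at this
    exact Ideal.mem_span_singleton.2 this
  have key : ∀ x : MvPowerSeries (Fin 2) R,
      φ x ∈ Ideal.span {(X 0 * X 1 - C d : MvPowerSeries (Fin 2) (R ⧸ Ideal.span {p}))} →
      cc r p ∣ Ideal.Quotient.mk _ x := by
    intro x hx
    obtain ⟨k, hk⟩ := Ideal.mem_span_singleton.1 hx
    choose k' hk' using fun n => Ideal.Quotient.mk_surjective (I := Ideal.span {p}) (coeff n k)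
    let K : MvPowerSeries (Fin 2) R := fun n => k' n
    have hK : φ K = k := MvPowerSeries.ext fun n => by rw [hφ, coeff_map]; exact hk' n
    obtain ⟨q, hq⟩ := dvd_of_map_eq_zero p (x - (X 0 * X 1 - C r) * K)
      (by show φ _ = 0; rw [map_sub, map_mul, hrel, hK, hk, sub_self])
    refine ⟨Ideal.Quotient.mk _ q, ?_⟩
    rw [RingHom.comp_apply, ← map_mul, Ideal.Quotient.eq, ← hq, sub_sub_cancel]
    exact Ideal.mul_mem_right _ _ (Ideal.mem_span_singleton_self _)
  exact (node_mem_or_mem d hd0 hd (φ f) (φ g) hmem).imp (key f) (key g)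

end NodeFactLib
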