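import Mathlib
import Groth.Agent.NodeFactLib.Basic

/-!
# Elements of `R[[x,y]]/(xy - r)` dividing a nonzero constant
-/

set_option autoImplicit false

universe u

namespace NodeFactLib

variable {R : Type u} [CommRing R] [IsDomain R] [IsLocalRing R] [IsNoetherianRing R] [UniqueFactorizationMonoid R]

omit [IsLocalRing R] [IsNoetherianRing R] [UniqueFactorizationMonoid R] in
theorem dvd_of_cc_dvd_cc (r : R) (p : R) (hp : p ∣ r) (t : R) (h : cc r p ∣ cc r t) : p ∣ t := by
  have := map_dvd (br r p hp 0) h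
  rw [br_cc_self, zero_dvd_iff, br_cc, map_eq_zero_iff _ PowerSeries.C_injective, Ideal.Quotient.eq_zero_iff_mem,
    Ideal.mem_span_singleton] at this
  exact this

omit [IsLocalRing R] [IsNoetherianRing R] in
theorem strip (r : R) (t : R) : t ≠ 0 → ∀ a b : Nd r, a * b = cc r t →
    ∃ (s : R) (a' b' : Nd r) (t' : R), t' ≠ 0 ∧ a = cc r s * a' ∧ a' * b' = cc r t' ∧
      ∀ p : R, Prime p → p ∣ t' → ¬ cc r p ∣ a' ∧ ¬ cc r p ∣ b' := by
  induction t using (wellFounded_dvdNotUnit (α := R)).induction with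
  | _ t ih =>
    intro ht a b hab
    by_cases h : ∀ p : R, Prime p → p ∣ t → ¬ cc r p ∣ a ∧ ¬ cc r p ∣ b
    · exact ⟨1, a, b, t, ht, by rw [map_one, one_mul], hab, h⟩
    push Not at h
    obtain ⟨p, hp, ⟨t₁, rfl⟩, hdiv⟩ := h
    have ht₁ : t₁ ≠ 0 := right_ne_zero_of_mul ht
    have hlt : DvdNotUnit t₁ (p * t₁) := ⟨ht₁, p, hp.not_unit, mul_comm _ _⟩
    by_cases ha : cc r p ∣ a
    · obtain ⟨a₁, rfl⟩ := ha
      have h1 : a₁ * b = cc r t₁ := sub_eq_zero.1 (cc_regular r p hp.ne_zero _ (by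
        rw [mul_sub, ← mul_assoc, hab, map_mul, sub_self]))
      obtain ⟨s, a', b', t', h⟩ := ih t₁ hlt ht₁ a₁ b h1
      exact ⟨p * s, a', b', t', h.1, by rw [map_mul, mul_assoc, ← h.2.1], h.2.2⟩
    · obtain ⟨b₁, rfl⟩ := hdiv ha
      have h1 : a * b₁ = cc r t₁ := sub_eq_zero.1 (cc_regular r p hp.ne_zero _ (by
        rw [mul_sub, mul_left_comm, hab, map_mul, sub_self]))
      exact ih t₁ hlt ht₁ a b₁ h1

omit [IsLocalRing R] [IsNoetherianRing R] in
open Classical in
theorem pow_dvd_le_card [NormalizationMonoid R] (p t : R) (hp : Prime p) (ht : t ≠ 0) (j : ℕ) (h : p ^ j ∣ t) :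
    j ≤ (UniqueFactorizationMonoid.normalizedFactors t).card := by
  have h2 := Multiset.card_le_card
    ((UniqueFactorizationMonoid.dvd_iff_normalizedFactors_le_normalizedFactors (pow_ne_zero j hp.ne_zero) ht).1 h)
  rw [UniqueFactorizationMonoid.normalizedFactors_pow, UniqueFactorizationMonoid.normalizedFactors_irreducible hp.irreducible,
    Multiset.card_nsmul, Multiset.card_singleton] at h2
  simpa using h2

omit [IsLocalRing R] [IsNoetherianRing R] in
theorem side_zero (r : R) (hr : r ≠ 0) (p : R) (hp : Prime p) (hpr : p ∣ r) (t : R) (ht : t ≠ 0) (a b a' : Nd r)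
    (hab : a * b = cc r t) (s : R) (K : ℕ) (hK : ∀ j, p ^ j ∣ t → j < K) (hs : a * xv r 0 ^ K = cc r s * a') :
    br r p hpr 1 a' = 0 := by
  haveI : (Ideal.span {p}).IsPrime := (Ideal.span_singleton_prime hp.ne_zero).2 hp
  have hs0 : s ≠ 0 := by
    rintro rfl
    rw [map_zero, zero_mul] at hs
    have h0 : ∀ K : ℕ, ∀ z : Nd r, z * xv r 0 ^ K = 0 → z = 0 := by
      intro K
      induction K with
      | zero => simp
      | succ K ih =>
        intro z hz
        refine ih z (xv_regular r hr 0 _ ?_)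
        rw [← hz, pow_succ]; ring
    rw [h0 K a hs, zero_mul] at hab
    have h1 := cc_regular r t ht 1 (by rw [mul_one, ← hab])
    have := congrArg (br r p hpr 0) h1
    rw [map_one, map_zero] at this
    exact one_ne_zero this
  obtain ⟨j, w, hw, rfl⟩ := WfDvdMonoid.max_power_factor hs0 hp.irreducible
  obtain ⟨c, t₀, ht₀, rfl⟩ := WfDvdMonoid.max_power_factor ht hp.irreducible
  have hcK : c < K := hK c (dvd_mul_right _ _)
  have hjc : j ≤ c := by
    by_contra hcon
    push Not at hcon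
    obtain ⟨l, rfl⟩ : ∃ l, j = c + (l + 1) := ⟨j - c - 1, by omega⟩
    have h1 : cc r (p ^ (l + 1) * w) * (a' * b) = xv r 0 ^ K * cc r t₀ := sub_eq_zero.1
      (cc_regular r (p ^ c) (pow_ne_zero _ hp.ne_zero) _ (by
        simp only [map_mul, map_pow, pow_add] at hs hab ⊢
        linear_combination (-b) * hs + (xv r 0 ^ K) * hab))
    have h2 := congrArg (br r p hpr 0) h1
    simp only [map_mul, map_pow, br_cc, br_xv_self] at h2
    rw [Ideal.Quotient.eq_zero_iff_mem.2 (Ideal.mem_span_singleton_self p)] at h2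
    simp only [map_zero, zero_pow (Nat.succ_ne_zero l), zero_mul] at h2
    rcases mul_eq_zero.1 h2.symm with h | h
    · exact pow_ne_zero K PowerSeries.X_ne_zero h
    · rw [map_eq_zero_iff _ PowerSeries.C_injective, Ideal.Quotient.eq_zero_iff_mem, Ideal.mem_span_singleton] at h
      exact ht₀ h
  obtain ⟨r', hr'⟩ := id hpr
  have hxy : xv r 0 * xv r 1 = cc r p * cc r r' := by rw [xv_mul, ← map_mul, ← hr']
  obtain ⟨l, rfl⟩ : ∃ l, K = j + (l + 1) := ⟨K - j - 1, by omega⟩
  have h1 : xv r 1 ^ j * cc r w * a' = xv r 0 ^ (l + 1) * cc r r' ^ j * a := sub_eq_zero.1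
    (cc_regular r (p ^ j) (pow_ne_zero _ hp.ne_zero) _ (by
      have hxyj := congrArg (· ^ j) hxy
      simp only [mul_pow] at hxyj
      simp only [map_mul, map_pow, pow_add] at hs ⊢
      linear_combination (-(xv r 1 ^ j)) * hs + (xv r 0 ^ l * xv r 0 ^ 1 * a) * hxyj))
  have h2 := congrArg (br r p hpr 1) h1
  simp only [map_mul, map_pow, br_cc, br_xv_self, br_xv_ne r p hpr (show (1 : Fin 2) ≠ 0 by decide)] at h2
  simp only [zero_pow (Nat.succ_ne_zero l), zero_mul] at h2
  refine (mul_eq_zero.1 h2).resolve_left (mul_ne_zero (pow_ne_zero _ PowerSeries.X_ne_zero) ?_)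
  rw [Ne, map_eq_zero_iff _ PowerSeries.C_injective, Ideal.Quotient.eq_zero_iff_mem, Ideal.mem_span_singleton]
  exact hw

omit [IsLocalRing R] [UniqueFactorizationMonoid R] in
theorem xv_mem_radical [UniqueFactorizationMonoid R] (r : R) (a b : Nd r) (t : R) (ht : t ≠ 0) (hab : a * b = cc r t)
    (hside : ∀ (p : R) (hp : p ∣ r), Prime p → br r p hp 0 a ≠ 0)
    (hprimes : ∀ p : R, Prime p → p ∣ t → p ∣ r) : xv r 0 ∈ (Ideal.span {a}).radical := by
  classical
  rw [← Ideal.sInf_minimalPrimes, Ideal.mem_sInf]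
  intro Q hQ
  have hQp : Q.IsPrime := hQ.1.1
  have htQ : cc r t ∈ Q := hQ.1.2 (hab ▸ Ideal.mul_mem_right _ _ (Ideal.mem_span_singleton_self a))
  obtain ⟨p, hp, hpQ, hpt⟩ : ∃ p, Prime p ∧ cc r p ∈ Q ∧ p ∣ t := by
    obtain ⟨f, hf, hfa⟩ := UniqueFactorizationMonoid.exists_prime_factors t ht
    obtain ⟨v, hv⟩ := hfa
    rw [← hv, map_mul] at htQ
    have h1 := (hQp.mem_or_mem htQ).resolve_right fun h =>
      hQp.ne_top (Ideal.eq_top_of_isUnit_mem _ h (v.isUnit.map (cc r)))
    rw [map_multiset_prod] at h1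
    obtain ⟨z, hz, hzQ⟩ := (Ideal.IsPrime.multiset_prod_mem_iff_exists_mem hQp _).1 h1
    obtain ⟨p, hp, rfl⟩ := Multiset.mem_map.1 hz
    exact ⟨p, hf p hp, hzQ, hv ▸ Dvd.dvd.mul_right (Multiset.dvd_prod hp) _⟩
  have hpr := hprimes p hp hpt
  have hxy : xv r 0 * xv r 1 ∈ Q := by
    rw [xv_mul]
    obtain ⟨r', hr'⟩ := hpr
    have e : cc r r = cc r p * cc r r' := by rw [← map_mul, ← hr']
    rw [e]
    exact Ideal.mul_mem_right _ _ hpQ
  rcases hQp.mem_or_mem hxy with h | h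
  · exact h
  exfalso
  haveI : (Ideal.span {p}).IsPrime := (Ideal.span_singleton_prime hp.ne_zero).2 hp
  let P : Ideal (Nd r) := RingHom.ker (br r p hpr 0)
  haveI : P.IsPrime := RingHom.ker_isPrime _
  have hPQ : P < Q := by
    refine lt_of_le_of_ne (fun z hz => ?_) fun e => hside p hpr hp (RingHom.mem_ker.1 (e ▸ hQ.1.2 (Ideal.mem_span_singleton_self a) : a ∈ P))
    obtain ⟨u, v, rfl⟩ := br_ker r p hpr (show (0 : Fin 2) ≠ 1 by decide) z hz
    exact Q.add_mem (Q.mul_mem_right _ hpQ) (Q.mul_mem_right _ h)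
  have hQ1 : Q.height ≤ 1 := Ideal.height_le_one_of_isPrincipal_of_mem_minimalPrimes (Ideal.span {a}) Q hQ
  have hfin : P.FiniteHeight := ⟨Or.inr (ne_top_of_le_ne_top ENat.one_ne_top ((Ideal.height_mono hPQ.le).trans hQ1))⟩
  have hP0 : P.height = 0 := by
    have := (Ideal.height_strict_mono_of_isPrime hPQ).trans_le hQ1
    exact Order.lt_one_iff.1 this
  have hmin : P ∈ minimalPrimes (Nd r) := Ideal.height_eq_zero_iff.1 hP0
  exact Ideal.disjoint_nonZeroDivisors_of_mem_minimalPrimes hmin |>.notMem_of_mem_left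
    (show cc r p ∈ P from RingHom.mem_ker.2 (br_cc_self r p hpr 0))
    (mem_nonZeroDivisors_iff_right.2 fun z hz => cc_regular r p hp.ne_zero z (by rw [mul_comm]; exact hz))

omit [IsLocalRing R] [IsNoetherianRing R] in
theorem divide_x (n : ℕ) : ∀ (d : R), d ≠ 0 → ∀ (F H : PowerSeries R) (t : R),
    (∀ p, Prime p → p ∣ d → ∃ u : PowerSeries (R ⧸ Ideal.span {p}), IsUnit u ∧
      PowerSeries.map (Ideal.Quotient.mk (Ideal.span {p})) F = PowerSeries.X ^ (n + 1) * u) →
    PowerSeries.C d ∣ F * H - PowerSeries.C t → PowerSeries.C d ∣ H ∧ d ∣ t := by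
  intro d
  induction d using UniqueFactorizationMonoid.induction_on_prime with
  | h₁ => exact fun h => absurd rfl h
  | h₂ x hx => exact fun _ _ _ _ _ _ => ⟨(hx.map PowerSeries.C).dvd, hx.dvd⟩
  | h₃ d p hd hp ih =>
    intro _ F H t hF hdvd
    haveI : (Ideal.span {p}).IsPrime := (Ideal.span_singleton_prime hp.ne_zero).2 hp
    obtain ⟨q, hq⟩ := hdvd
    obtain ⟨u, hu, huF⟩ := hF p hp (dvd_mul_right _ _)
    have h0 := congrArg (PowerSeries.map (Ideal.Quotient.mk (Ideal.span {p}))) hq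
    simp only [map_sub, map_mul, PowerSeries.map_C, Ideal.Quotient.eq_zero_iff_mem.2 (Ideal.mem_span_singleton_self p),
      map_zero, zero_mul, sub_eq_zero, huF] at h0
    have ht : p ∣ t := by
      have := congrArg PowerSeries.constantCoeff h0
      simp only [map_mul, map_pow, PowerSeries.constantCoeff_X, zero_pow (Nat.succ_ne_zero n), zero_mul,
        PowerSeries.constantCoeff_C] at this
      exact Ideal.mem_span_singleton.1 (Ideal.Quotient.eq_zero_iff_mem.1 this.symm)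
    rw [Ideal.Quotient.eq_zero_iff_mem.2 (Ideal.mem_span_singleton.2 ht), map_zero, mul_eq_zero,
      or_iff_right (mul_ne_zero (pow_ne_zero _ PowerSeries.X_ne_zero) hu.ne_zero)] at h0
    obtain ⟨H', rfl⟩ : PowerSeries.C p ∣ H := by
      have hdvd : ∀ k, p ∣ PowerSeries.coeff k H := fun k => by
        have := congrArg (PowerSeries.coeff k) h0
        rw [map_zero, PowerSeries.coeff_map, Ideal.Quotient.eq_zero_iff_mem, Ideal.mem_span_singleton] at this
        exact this
      choose c hc using hdvd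
      exact ⟨PowerSeries.mk c, PowerSeries.ext fun k => by rw [PowerSeries.coeff_C_mul, PowerSeries.coeff_mk]; exact hc k⟩
    obtain ⟨t', rfl⟩ := ht
    obtain ⟨h1, h2⟩ := ih hd F H' t' (fun p' hp' h => hF p' hp' (h.mul_left _)) ⟨q, mul_left_cancel₀
      (show PowerSeries.C p ≠ 0 by rw [Ne, map_eq_zero_iff _ PowerSeries.C_injective]; exact hp.ne_zero)
      (by rw [map_mul] at hq; simp only [map_mul] at hq; linear_combination hq)⟩
    exact ⟨by rw [map_mul]; exact mul_dvd_mul_left _ h1, mul_dvd_mul_left _ h2⟩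

omit [IsLocalRing R] [IsNoetherianRing R] in
theorem divide_y : ∀ (d : R), d ≠ 0 → ∀ (G H : PowerSeries R),
    (∀ p, Prime p → p ∣ d → PowerSeries.map (Ideal.Quotient.mk (Ideal.span {p})) H ≠ 0) →
    PowerSeries.C d ∣ G * H → PowerSeries.C d ∣ G := by
  intro d
  induction d using UniqueFactorizationMonoid.induction_on_prime with
  | h₁ => exact fun h => absurd rfl h
  | h₂ x hx => exact fun _ _ _ _ _ => (hx.map PowerSeries.C).dvd
  | h₃ d p hd hp ih =>
    intro _ G H hH hdvd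
    haveI : (Ideal.span {p}).IsPrime := (Ideal.span_singleton_prime hp.ne_zero).2 hp
    obtain ⟨q, hq⟩ := hdvd
    have h0 := congrArg (PowerSeries.map (Ideal.Quotient.mk (Ideal.span {p}))) hq
    simp only [map_mul, PowerSeries.map_C, Ideal.Quotient.eq_zero_iff_mem.2 (Ideal.mem_span_singleton_self p),
      map_zero, zero_mul, mul_eq_zero, or_iff_left (hH p hp (dvd_mul_right _ _))] at h0
    obtain ⟨G', rfl⟩ : PowerSeries.C p ∣ G := by
      have hdvd : ∀ k, p ∣ PowerSeries.coeff k G := fun k => by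
        have := congrArg (PowerSeries.coeff k) h0
        rw [map_zero, PowerSeries.coeff_map, Ideal.Quotient.eq_zero_iff_mem, Ideal.mem_span_singleton] at this
        exact this
      choose c hc using hdvd
      exact ⟨PowerSeries.mk c, PowerSeries.ext fun k => by rw [PowerSeries.coeff_C_mul, PowerSeries.coeff_mk]; exact hc k⟩
    rw [map_mul]
    refine mul_dvd_mul_left _ (ih hd G' H (fun p' hp' h => hH p' hp' (h.mul_left _)) ⟨q, mul_left_cancel₀
      (show PowerSeries.C p ≠ 0 by rw [Ne, map_eq_zero_iff _ PowerSeries.C_injective]; exact hp.ne_zero)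
      (by rw [map_mul] at hq; linear_combination hq)⟩)

omit [IsNoetherianRing R] [UniqueFactorizationMonoid R] in
theorem isUnit_of_isUnit_br (r : R) (p : R) (hp : Prime p) (hpr : p ∣ r) (a : Nd r) (h : IsUnit (br r p hpr 0 a)) :
    IsUnit a := by
  obtain ⟨f, rfl⟩ := Ideal.Quotient.mk_surjective a
  refine IsUnit.map _ (MvPowerSeries.isUnit_iff_constantCoeff.2 ?_)
  rw [br_mk, PowerSeries.isUnit_iff_constantCoeff, ← PowerSeries.coeff_zero_eq_constantCoeff_apply,
    PowerSeries.coeff_map, coeff_axis, Finsupp.single_zero, MvPowerSeries.coeff_zero_eq_constantCoeff_apply,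
    isUnit_iff_exists_inv] at h
  obtain ⟨v, hv⟩ := h
  obtain ⟨v, rfl⟩ := Ideal.Quotient.mk_surjective v
  rw [← map_mul, ← map_one (Ideal.Quotient.mk (Ideal.span {p})), Ideal.Quotient.eq] at hv
  by_contra hc
  have h1 : Ideal.span {p} ≤ IsLocalRing.maximalIdeal R :=
    (Ideal.span_singleton_le_iff_mem _).2 hp.not_unit
  have h2 := sub_mem (Ideal.mul_mem_right v _ ((IsLocalRing.mem_maximalIdeal _).2 hc)) (h1 hv)
  rw [sub_sub_cancel] at h2
  exact (IsLocalRing.maximalIdeal.isMaximal R).ne_top ((Ideal.eq_top_iff_one _).2 h2)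

omit [IsNoetherianRing R] in
theorem eq_pow_mul (r : R) (hr0 : r ≠ 0) (hr : r ∈ IsLocalRing.maximalIdeal R) :
    ∀ (n : ℕ) (a b : Nd r) (t : R), a * b = cc r t →
      (∀ (p : R) (hpr : p ∣ r), Prime p →
        (∃ u : PowerSeries (R ⧸ Ideal.span {p}), IsUnit u ∧ br r p hpr 0 a = PowerSeries.X ^ n * u) ∧ ¬ cc r p ∣ b) →
      ∃ u : (Nd r)ˣ, a = xv r 0 ^ n * u := by
  intro n
  induction n with
  | zero =>
    intro a b t _ h
    obtain ⟨p, hp, hpr⟩ := WfDvdMonoid.exists_irreducible_factor hr hr0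
    obtain ⟨⟨u, hu, hau⟩, -⟩ := h p hpr hp.prime
    rw [pow_zero, one_mul] at hau
    exact ⟨(isUnit_of_isUnit_br r p hp.prime hpr a (hau ▸ hu)).unit, by simp⟩
  | succ n ih =>
    intro a b t hab h
    obtain ⟨f, hf⟩ := Ideal.Quotient.mk_surjective a
    obtain ⟨g, hg⟩ := Ideal.Quotient.mk_surjective b
    have hmem := hab
    rw [← hf, ← hg, RingHom.comp_apply, ← map_mul, Ideal.Quotient.eq, Ideal.mem_span_singleton] at hmem
    have hax : ∀ i, PowerSeries.C r ∣ axis i f * axis i g - PowerSeries.C t := fun i => by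
      have := map_dvd (axis i) hmem
      rwa [axis_rel, map_sub, map_mul, axis_C, neg_dvd] at this
    obtain ⟨hH, hrt⟩ := divide_x n r hr0 (axis 0 f) (axis 0 g) t (fun p hp hpr => by
      obtain ⟨⟨u, hu, hau⟩, -⟩ := h p hpr hp
      exact ⟨u, hu, by rw [← br_mk r p hpr, hf, hau]⟩) (hax 0)
    have hb0 : br r r dvd_rfl 0 b = 0 := by
      obtain ⟨q, hq⟩ := hH
      rw [← hg, br_mk, hq, map_mul, PowerSeries.map_C,
        Ideal.Quotient.eq_zero_iff_mem.2 (Ideal.mem_span_singleton_self r), map_zero, zero_mul]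
    have hG : PowerSeries.C r ∣ axis 1 f := by
      refine divide_y r hr0 _ (axis 1 g) (fun p hp hpr hzero => ?_) ?_
      · refine (h p hpr hp).2 (cc_dvd_of_br_eq_zero r p hpr hp b ?_ ?_)
        · obtain ⟨q, hq⟩ := hH
          rw [← hg, br_mk, hq, map_mul, PowerSeries.map_C,
            Ideal.Quotient.eq_zero_iff_mem.2 (Ideal.mem_span_singleton.2 hpr), map_zero, zero_mul]
        · rw [← hg, br_mk, hzero]
      · have := dvd_add (hax 1) (map_dvd PowerSeries.C hrt)
        rwa [sub_add_cancel] at this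
    have ha1 : br r r dvd_rfl 1 a = 0 := by
      obtain ⟨q, hq⟩ := hG
      rw [← hf, br_mk, hq, map_mul, PowerSeries.map_C,
        Ideal.Quotient.eq_zero_iff_mem.2 (Ideal.mem_span_singleton_self r), map_zero, zero_mul]
    obtain ⟨a', rfl⟩ := xv_dvd_of_br_eq_zero r (show (1 : Fin 2) ≠ 0 by decide) a ha1
    obtain ⟨b', rfl⟩ := xv_dvd_of_br_eq_zero r (show (0 : Fin 2) ≠ 1 by decide) b hb0
    obtain ⟨t', rfl⟩ := hrt
    have hab' : a' * b' = cc r t' := sub_eq_zero.1 (cc_regular r r hr0 _ (by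
      rw [map_mul, ← xv_mul] at hab
      rw [← xv_mul]
      linear_combination hab))
    obtain ⟨u, hu⟩ := ih a' b' t' hab' (fun p hpr hp => by
      obtain ⟨⟨u, hu, hau⟩, hnb⟩ := h p hpr hp
      haveI : (Ideal.span {p}).IsPrime := (Ideal.span_singleton_prime hp.ne_zero).2 hp
      refine ⟨⟨u, hu, mul_left_cancel₀ PowerSeries.X_ne_zero ?_⟩, fun hd => hnb (hd.mul_left _)⟩
      rw [← mul_assoc, ← pow_succ', ← hau, map_mul, br_xv_self])
    exact ⟨u, by rw [hu, pow_succ', mul_assoc]⟩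

theorem exists_monomial [IsAdicComplete (IsLocalRing.maximalIdeal R) R]
    (r : R) (hr0 : r ≠ 0) (hr : r ∈ IsLocalRing.maximalIdeal R) (a b : Nd r) (t : R) (ht : t ≠ 0)
    (hab : a * b = cc r t) :
    ∃ (s : R) (K n : ℕ) (u : (Nd r)ˣ), a * xv r 0 ^ K = cc r s * xv r 0 ^ n * u := by
  classical
  letI : StrongNormalizationMonoid R := UniqueFactorizationMonoid.normalizationMonoid
  set K := (UniqueFactorizationMonoid.normalizedFactors t).card + 1
  have hab₁ : (a * xv r 0 ^ K) * (b * xv r 1 ^ K) = cc r (t * r ^ K) := by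
    rw [map_mul, map_pow, ← xv_mul, ← hab]; ring
  obtain ⟨s, a', b', t', ht', hs, hab', hnd⟩ := strip r _ (mul_ne_zero ht (pow_ne_zero _ hr0)) _ _ hab₁
  have hside1 : ∀ (p : R) (hpr : p ∣ r), Prime p → br r p hpr 1 a' = 0 := fun p hpr hp =>
    side_zero r hr0 p hp hpr t ht a b a' hab s K
      (fun j hj => Nat.lt_succ_of_le (pow_dvd_le_card p t hp ht j hj)) hs
  have hdvd : ∀ (p : R), p ∣ r → Prime p → p ∣ t' := fun p hpr hp => by
    haveI : (Ideal.span {p}).IsPrime := (Ideal.span_singleton_prime hp.ne_zero).2 hp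
    have := congrArg (br r p hpr 1) hab'
    rw [map_mul, hside1 p hpr hp, zero_mul, br_cc, eq_comm, map_eq_zero_iff _ PowerSeries.C_injective,
      Ideal.Quotient.eq_zero_iff_mem, Ideal.mem_span_singleton] at this
    exact this
  have hside0 : ∀ (p : R) (hpr : p ∣ r), Prime p → br r p hpr 0 a' ≠ 0 := fun p hpr hp h0 =>
    (hnd p hp (hdvd p hpr hp)).1 (cc_dvd_of_br_eq_zero r p hpr hp a' h0 (hside1 p hpr hp))
  have hprimes : ∀ p : R, Prime p → p ∣ t' → p ∣ r := fun p hp hpt => by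
    by_contra hpr
    rcases cc_gauss r hr p hp hpr a' b' (hab' ▸ map_dvd (cc r) hpt) with h | h
    · exact (hnd p hp hpt).1 h
    · exact (hnd p hp hpt).2 h
  obtain ⟨M, hM⟩ := xv_mem_radical r a' b' t' ht' hab' hside0 hprimes
  rw [Ideal.mem_span_singleton] at hM
  have hord : ∀ (p : R) (hpr : p ∣ r), Prime p → ∃ (i : ℕ) (u : PowerSeries (R ⧸ Ideal.span {p})), IsUnit u ∧ br r p hpr 0 a' = PowerSeries.X ^ i * u := by
    intro p hpr hp
    haveI : (Ideal.span {p}).IsPrime := (Ideal.span_singleton_prime hp.ne_zero).2 hp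
    have h1 := map_dvd (br r p hpr 0) hM
    rw [map_pow, br_xv_self] at h1
    obtain ⟨i, -, hi⟩ := (dvd_prime_pow PowerSeries.X_prime M).1 h1
    obtain ⟨u, hu⟩ := hi.symm
    exact ⟨i, u, u.isUnit, hu.symm⟩
  obtain ⟨p₀, hp₀, hp₀r⟩ := WfDvdMonoid.exists_irreducible_factor hr hr0
  obtain ⟨n, u₀, hu₀, hn⟩ := hord p₀ hp₀r hp₀.prime
  have hsame : ∀ (p : R) (hpr : p ∣ r), Prime p → ∃ u : PowerSeries (R ⧸ Ideal.span {p}), IsUnit u ∧ br r p hpr 0 a' = PowerSeries.X ^ n * u := by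
    intro p hpr hp
    obtain ⟨i, u, hu, hi⟩ := hord p hpr hp
    have key : ∀ (q : R) (hqr : q ∣ r) (hq : Prime q) (j : ℕ) (v : PowerSeries (R ⧸ Ideal.span {q})),
        IsUnit v → br r q hqr 0 a' = PowerSeries.X ^ j * v →
        ∀ f, Ideal.Quotient.mk _ f = a' → Associated (PowerSeries.X ^ j)
          (PowerSeries.map (IsLocalRing.residue R) (axis 0 f)) := by
      intro q hqr hq j v hv hj f hf
      rw [← hf, br_mk] at hj
      have hle : Ideal.span {q} ≤ IsLocalRing.maximalIdeal R := (Ideal.span_singleton_le_iff_mem _).2 hq.not_unit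
      have h2 := congrArg (PowerSeries.map (Ideal.Quotient.factor hle)) hj
      rw [map_mul, map_pow, PowerSeries.map_X, ← RingHom.comp_apply (PowerSeries.map (Ideal.Quotient.factor hle)),
        ← PowerSeries.map_comp, Ideal.Quotient.factor_comp_mk] at h2
      exact ⟨(hv.map (PowerSeries.map (Ideal.Quotient.factor hle))).unit, h2.symm⟩
    obtain ⟨f, hf⟩ := Ideal.Quotient.mk_surjective a'
    have hass := (key p hpr hp i u hu hi f hf).trans (key p₀ hp₀r hp₀.prime n u₀ hu₀ hn f hf).symm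
    have hXnu : ¬ IsUnit (PowerSeries.X : PowerSeries (IsLocalRing.ResidueField R)) := PowerSeries.X_prime.not_unit
    have hin : i = n := le_antisymm
      ((pow_dvd_pow_iff PowerSeries.X_ne_zero hXnu).1 hass.dvd)
      ((pow_dvd_pow_iff PowerSeries.X_ne_zero hXnu).1 hass.symm.dvd)
    exact ⟨u, hu, hin ▸ hi⟩
  obtain ⟨u, hu⟩ := eq_pow_mul r hr0 hr n a' b' t' hab' fun p hpr hp =>
    ⟨hsame p hpr hp, (hnd p hp (hdvd p hpr hp)).2⟩
  exact ⟨s, K, n, u, by rw [hs, hu, mul_assoc]⟩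

end NodeFactLib
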